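import Groth.Agent.SurfProd75.Basic
import Groth.Agent.Lib.CurveDeg

/-!
The equivalence defect on a product of two curves.
-/

noncomputable section

set_option linter.style.haveILetI false
set_option linter.unusedSectionVars false
set_option backward.isDefEq.respectTransparency false
set_option backward.isDefEq.respectTransparency.types false

universe u

open CategoryTheory CategoryTheory.Limits AlgebraicGeometry TopologicalSpace

namespace Groth.Agent.SurfProd75

open Groth.Agent
open scoped Groth.Agent.H23.PicMul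

theorem mul_le_of_forall_nonpos {A B C : ℤ} (h : ∀ x y : ℤ, x * x * A + 2 * (x * y) * B + y * y * C ≤ 0) :
    B ^ 2 ≤ A * C := by
  rcases eq_or_ne C 0 with rfl | hC
  · have h1 := h 1 (B * (A.natAbs + 1))
    have h2 : -(A.natAbs : ℤ) ≤ A := by omega
    rw [mul_zero]
    nlinarith [sq_nonneg B, Int.natCast_nonneg A.natAbs]
  · have hC0 : C < 0 := lt_of_le_of_ne (by simpa using h 0 1) hC
    have h1 := h C (-B)
    nlinarith

theorem isInvertible_of_tensor {X : Scheme.{u}} {L M : X.Modules} (hL : PicF.IsInvertible L)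
    (h : Nonempty (CohB1.tensorMod L M ≅ Coh.structureModule X)) : PicF.IsInvertible M := by
  obtain ⟨D, hD, e⟩ := H23.PicInv.exists_inverse hL
  have h1 : PicF.cl L * PicF.cl M = 1 := by rw [← H23.PicMul.cl_tensor]; exact H23.PicMul.cl_eq_iff.2 h
  have h2 : PicF.cl L * PicF.cl D = 1 := by rw [← H23.PicMul.cl_tensor]; exact H23.PicMul.cl_eq_iff.2 e
  have h3 : PicF.cl D = PicF.cl M := by
    rw [← _root_.one_mul (PicF.cl M), ← h2, mul_comm (PicF.cl L), _root_.mul_assoc, h1, _root_.mul_one]
  exact H23.PicMul.isInvertible_of_iso (H23.PicMul.cl_eq_iff.1 h3).some hD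

section Index

variable (k : Type u) [Field k] {X : Scheme.{u}} [X.Over (Spec (CommRingCat.of k))]
  [IsProper (X ↘ Spec (CommRingCat.of k))] [IsIntegral X] (hdim : topologicalKrullDim X = 2)
  {H F G : X.Modules} (hH : CohB1.IsAmple H) (hF : PicF.IsInvertible F) (hG : PicF.IsInvertible G)
  (hFF : SurfInt.dot k F F = 0) (hGG : SurfInt.dot k G G = 0) (hFG : SurfInt.dot k F G = 1)

include hdim hH hF hG hFF hGG hFG

theorem defect_sq_le {L L' : X.Modules} (hL : PicF.IsInvertible L) (hL' : PicF.IsInvertible L') :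
    (SurfInt.dot k L L' - SurfInt.dot k F L * SurfInt.dot k G L' - SurfInt.dot k G L * SurfInt.dot k F L') ^ 2 ≤
      (2 * SurfInt.dot k F L * SurfInt.dot k G L - SurfInt.dot k L L) *
        (2 * SurfInt.dot k F L' * SurfInt.dot k G L' - SurfInt.dot k L' L') ∧
    SurfInt.dot k L L ≤ 2 * SurfInt.dot k F L * SurfInt.dot k G L := by
  have hd := hdim.le
  have hP := H23.PicMul.isInvertible_tensor hF hG
  have hGF : SurfInt.dot k G F = 1 := by rw [SurfInt.dot_comm k hd hG hF, hFG]
  have hPP : 0 < SurfInt.dot k (CohB1.tensorMod F G) (CohB1.tensorMod F G) := by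
    rw [SurfInt.dot_tensor_left k hd hF hG hP, SurfInt.dot_tensor_right k hd hF hG hF,
      SurfInt.dot_tensor_right k hd hF hG hG, hFF, hGG, hFG, hGF]
    norm_num
  obtain ⟨V, hV, hVd⟩ := SurfInt.exists_comb k hd hF hG (1 : ℤ) 0
  have key : ∀ x y : ℤ,
      x * x * (SurfInt.dot k L L - 2 * SurfInt.dot k F L * SurfInt.dot k G L) +
        2 * (x * y) * (SurfInt.dot k L L' - SurfInt.dot k F L * SurfInt.dot k G L' - SurfInt.dot k G L * SurfInt.dot k F L') +
        y * y * (SurfInt.dot k L' L' - 2 * SurfInt.dot k F L' * SurfInt.dot k G L') ≤ 0 := by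
    intro x y
    obtain ⟨Z, hZ, hZd⟩ := SurfInt.exists_comb k hd hL hL' x y
    obtain ⟨Q, hQ, hQd⟩ := SurfInt.exists_comb k hd hF hG (-(SurfInt.dot k Z G)) (-(SurfInt.dot k Z F))
    have hW := H23.PicMul.isInvertible_tensor hZ hQ
    have hd' : ∀ N : X.Modules, PicF.IsInvertible N → SurfInt.dot k (CohB1.tensorMod Z Q) N =
        x * SurfInt.dot k L N + y * SurfInt.dot k L' N - SurfInt.dot k Z G * SurfInt.dot k F N -
          SurfInt.dot k Z F * SurfInt.dot k G N := fun N hN => by
      rw [SurfInt.dot_tensor_left k hd hZ hQ hN, hZd N hN, hQd N hN]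
      ring
    have hWF : SurfInt.dot k (CohB1.tensorMod Z Q) F = 0 := by
      rw [hd' F hF, hFF, hGF, hZd F hF]; ring
    have hWG : SurfInt.dot k (CohB1.tensorMod Z Q) G = 0 := by
      rw [hd' G hG, hGG, hFG, hZd G hG]; ring
    have h1 := (SurfInt.index_theorem k hdim hP hW hH hPP (by
      rw [SurfInt.dot_comm k hd hP hW, SurfInt.dot_tensor_right k hd hF hG hW, hWF, hWG, add_zero])).1
    rw [hd' _ hW, SurfInt.dot_comm k hd hF hW, SurfInt.dot_comm k hd hG hW, hWF, hWG,
      SurfInt.dot_comm k hd hL hW, SurfInt.dot_comm k hd hL' hW, hd' L hL, hd' L' hL', hZd G hG, hZd F hF,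
      SurfInt.dot_comm k hd hL hF, SurfInt.dot_comm k hd hL' hF, SurfInt.dot_comm k hd hL hG,
      SurfInt.dot_comm k hd hL' hG, SurfInt.dot_comm k hd hL' hL] at h1
    linarith
  have hq := mul_le_of_forall_nonpos key
  have h10 := key 1 0
  exact ⟨hq.trans_eq (by ring), by linarith⟩

end Index

section Product

variable (k : Type u) [Field k] [IsAlgClosed k] {C C' : Scheme.{u}}
  [C.Over (Spec (CommRingCat.of k))] [C'.Over (Spec (CommRingCat.of k))]

local notation "π" => (C ↘ Spec (CommRingCat.of k))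
local notation "π'" => (C' ↘ Spec (CommRingCat.of k))

/-- The equivalence defect inequality on `C × C'`, with degrees along the two sections. -/
theorem defect (h : Curve.IsSmoothProperCurve k C π) (h' : Curve.IsSmoothProperCurve k C' π')
    (x : Spec (CommRingCat.of k) ⟶ C) (hx : x ≫ π = 𝟙 _) (y : Spec (CommRingCat.of k) ⟶ C') (hy : y ≫ π' = 𝟙 _)
    (i : C ⟶ pullback π π') (hi : i ≫ pullback.fst _ _ = 𝟙 C ∧ i ≫ pullback.snd _ _ = π ≫ y)
    (i' : C' ⟶ pullback π π') (hi' : i' ≫ pullback.snd _ _ = 𝟙 C' ∧ i' ≫ pullback.fst _ _ = π' ≫ x)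
    (L M L' M' : (pullback π π').Modules) (hL : PicF.IsInvertible L)
    (hM : Nonempty (CohB1.tensorMod L M ≅ Coh.structureModule _)) (hL' : PicF.IsInvertible L')
    (hM' : Nonempty (CohB1.tensorMod L' M' ≅ Coh.structureModule _)) :
    letI : (pullback π π').Over (Spec (CommRingCat.of k)) := ⟨pullback.fst _ _ ≫ π⟩
    (FGA.intNum k (pullback π π') 2 ![M, M'] (Coh.structureModule _)
        - Curv2.deg k C ((Scheme.Modules.pullback i).obj L) 1 * Curv2.deg k C' ((Scheme.Modules.pullback i').obj L') 1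
        - Curv2.deg k C' ((Scheme.Modules.pullback i').obj L) 1 * Curv2.deg k C ((Scheme.Modules.pullback i).obj L') 1) ^ 2 ≤
      (2 * Curv2.deg k C ((Scheme.Modules.pullback i).obj L) 1 * Curv2.deg k C' ((Scheme.Modules.pullback i').obj L) 1
          - FGA.intNum k (pullback π π') 2 ![M, M] (Coh.structureModule _))
        * (2 * Curv2.deg k C ((Scheme.Modules.pullback i).obj L') 1 * Curv2.deg k C' ((Scheme.Modules.pullback i').obj L') 1
          - FGA.intNum k (pullback π π') 2 ![M', M'] (Coh.structureModule _)) ∧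
    FGA.intNum k (pullback π π') 2 ![M, M] (Coh.structureModule _) ≤
      2 * Curv2.deg k C ((Scheme.Modules.pullback i).obj L) 1 * Curv2.deg k C' ((Scheme.Modules.pullback i').obj L) 1 := by
  haveI := h.1
  haveI := h'.1
  haveI := h.2.1
  haveI := h'.2.1
  haveI := h.2.2.1
  haveI := h'.2.2.1
  letI : (pullback π π').Over (Spec (CommRingCat.of k)) := ⟨pullback.fst _ _ ≫ π⟩
  haveI : IsProper (pullback π π' ↘ Spec (CommRingCat.of k)) :=
    inferInstanceAs (IsProper (pullback.fst π π' ≫ π))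
  haveI := isIntegral_surface k h h'
  have hdim := dim_surface k h h'
  have hd := hdim.le
  obtain ⟨H, hH⟩ := exists_isAmple_surface k h h'
  obtain ⟨I, hI, hIdeg, hItriv, hId⟩ := exists_fibreClass k h h' x hx hdim (pullback.fst π π') (pullback.snd π π')
    (IsPullback.of_hasPullback π π') rfl i' hi'.1 hi'.2
  obtain ⟨J, hJ, hJdeg, hJtriv, hJd⟩ := exists_fibreClass k h' h y hy hdim (pullback.snd π π') (pullback.fst π π')
    (IsPullback.of_hasPullback π π').flip pullback.condition.symm i hi.1 hi.2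
  set F := (Scheme.Modules.pullback (pullback.fst π π')).obj I
  set G := (Scheme.Modules.pullback (pullback.snd π π')).obj J
  have hF : PicF.IsInvertible F := PicClLib.isInvertible_pullback _ hI
  have hG : PicF.IsInvertible G := PicClLib.isInvertible_pullback _ hJ
  have ecomp : ∀ {A B D : Scheme.{u}} (u : A ⟶ B) (v : B ⟶ D) (w : A ⟶ D) (_ : u ≫ v = w) (N : D.Modules),
      Nonempty ((Scheme.Modules.pullback u).obj ((Scheme.Modules.pullback v).obj N) ≅
        (Scheme.Modules.pullback w).obj N) := fun u v w e N => by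
    subst e; exact ⟨(Scheme.Modules.pullbackComp u v).app N⟩
  have hFF : SurfInt.dot k F F = 0 := by
    obtain ⟨e⟩ := ecomp i' (pullback.fst π π') _ hi'.2 I
    obtain ⟨e'⟩ := hItriv π'
    rw [hId F hF, CurveRR.deg_congr k (e ≪≫ e') 1, CurveDeg.deg_structureModule]
    norm_num
  have hGG : SurfInt.dot k G G = 0 := by
    obtain ⟨e⟩ := ecomp i (pullback.snd π π') _ hi.2 J
    obtain ⟨e'⟩ := hJtriv π
    rw [hJd G hG, CurveRR.deg_congr k (e ≪≫ e') 1, CurveDeg.deg_structureModule]
    norm_num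
  have hFG : SurfInt.dot k F G = 1 := by
    obtain ⟨e⟩ := ecomp i' (pullback.snd π π') _ hi'.1 J
    rw [hId G hG, CurveRR.deg_congr k (e ≪≫ (Scheme.Modules.pullbackId C').app J) 1]
    show -Curv2.deg k C' J 1 = 1
    rw [hJdeg]
    norm_num
  have hMi := isInvertible_of_tensor hL hM
  have hMi' := isInvertible_of_tensor hL' hM'
  obtain ⟨h1, h2⟩ := defect_sq_le k hdim hH hF hG hFF hGG hFG hL hL'
  rw [hId L hL, hJd L hL, hId L' hL', hJd L' hL', ← SurfInt.dot_inv_inv k hd hL hMi hL' hMi' hM hM',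
    ← SurfInt.dot_inv_inv k hd hL hMi hL hMi hM hM, ← SurfInt.dot_inv_inv k hd hL' hMi' hL' hMi' hM' hM'] at h1
  rw [hId L hL, hJd L hL, ← SurfInt.dot_inv_inv k hd hL hMi hL hMi hM hM] at h2
  exact ⟨le_of_eq_of_le (by ring) (h1.trans_eq (by ring)), by linarith⟩

end Product

end Groth.Agent.SurfProd75
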