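import Groth.Agent.SurfInt.Hodge
import Groth.Agent.CurveEmbed.Equiv
import Groth.Agent.CurveEmbed.Points
import Groth.Agent.ArSurfX.PullIdeal
import Groth.Agent.AmpleX.BaseChange
import Groth.Agent.AmpleX.RelAffine
import Groth.Agent.VarAmp.Exists
import Groth.Agent.FibDim.BaseField
import Groth.Agent.GrpSchLib.GeomIrr
import Groth.Agent.CurveCohLib.SmoothCurve
import Groth.Agent.H23.KLBasic
import Groth.Agent.RegLoc6.Normal
import Groth.Agent.FDescent.UnivOpen
import Groth.Prelude.Def_Curve

/-!
The surface `C₁ × C₂` of two smooth proper curves: the fibre classes and the index theorem.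
-/

noncomputable section

set_option linter.style.haveILetI false
set_option linter.unusedSectionVars false
set_option backward.isDefEq.respectTransparency false
set_option backward.isDefEq.respectTransparency.types false

universe u

open CategoryTheory CategoryTheory.Limits AlgebraicGeometry TopologicalSpace

namespace Groth.Agent.SurfProd75

open Groth.Agent
open scoped Groth.Agent.H23.PicMul

variable (k : Type u) [Field k] [IsAlgClosed k] {C C' : Scheme.{u}}
  [C.Over (Spec (CommRingCat.of k))] [C'.Over (Spec (CommRingCat.of k))]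

local notation "π" => (C ↘ Spec (CommRingCat.of k))
local notation "π'" => (C' ↘ Spec (CommRingCat.of k))

theorem isIntegral_surface (h : Curve.IsSmoothProperCurve k C π) (h' : Curve.IsSmoothProperCurve k C' π') :
    IsIntegral (pullback π π') := by
  obtain ⟨_, _, _, -⟩ := h
  obtain ⟨_, _, _, -⟩ := h'
  haveI := GrpSchLib.geometricallyIrreducible_of_isAlgClosed π'
  haveI : Subsingleton (Spec (CommRingCat.of k)) := inferInstanceAs (Subsingleton (PrimeSpectrum k))
  haveI : UniversallyOpen π' := FDescent.universallyOpen_of_subsingleton π'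
  haveI : IrreducibleSpace ↥(pullback π π') :=
    GeometricallyIrreducible.irreducibleSpace (pullback.fst π π') (pullback.fst π π').isOpenMap
  haveI : CompactSpace ↥(pullback π π') := QuasiCompact.compactSpace_of_compactSpace (pullback.fst π π' ≫ π)
  haveI : ConnectedSpace ↥(pullback π π') := inferInstance
  exact CurveCohLib.isIntegral_of_smooth_connected (pullback.fst π π' ≫ π)

theorem dim_surface (h : Curve.IsSmoothProperCurve k C π) (h' : Curve.IsSmoothProperCurve k C' π') :
    topologicalKrullDim ↥(pullback π π') = 2 := by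
  obtain ⟨_, _, _, hd⟩ := h
  obtain ⟨_, _, _, hd'⟩ := h'
  rw [FibDim.topologicalKrullDim_pullback, hd, hd']
  rfl

theorem exists_isAmple_surface (h : Curve.IsSmoothProperCurve k C π) (h' : Curve.IsSmoothProperCurve k C' π') :
    ∃ H : (pullback π π').Modules, CohB1.IsAmple H := by
  obtain ⟨_, _, _, hd⟩ := h
  obtain ⟨_, _, _, hd'⟩ := h'
  haveI : IsLocallyNoetherian C := LocallyOfFiniteType.isLocallyNoetherian π
  haveI : CompactSpace C := QuasiCompact.compactSpace_of_compactSpace π
  haveI : IsNoetherian C := {}
  haveI : IsLocallyNoetherian C' := LocallyOfFiniteType.isLocallyNoetherian π'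
  haveI : CompactSpace C' := QuasiCompact.compactSpace_of_compactSpace π'
  haveI : IsNoetherian C' := {}
  obtain ⟨A, hA⟩ := VarAmp.exists_isAmple k (X := C) hd.le
  obtain ⟨B, hB⟩ := VarAmp.exists_isAmple k (X := C') hd'.le
  have h1 := AmpleX.isRelAmple_prod (𝟙 (Spec (CommRingCat.of k))) (𝟙 (Spec (CommRingCat.of k))) π π'
    ((AmpleX.isRelAmple_iff_isAmple π A).2 hA) ((AmpleX.isRelAmple_iff_isAmple π' B).2 hB)
  haveI : IsAffine (pullback (𝟙 (Spec (CommRingCat.of k))) (𝟙 (Spec (CommRingCat.of k)))) :=
    .of_isIso (pullback.fst _ _)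
  haveI := h1.1
  have h2 := (AmpleX.isRelAmple_iff_isAmple _ _).1 h1
  have key : ∀ (a : C ⟶ Spec (CommRingCat.of k)) (a' : C' ⟶ Spec (CommRingCat.of k)), a = π → a' = π' →
      (∃ H : (pullback a a').Modules, CohB1.IsAmple H) → ∃ H : (pullback π π').Modules, CohB1.IsAmple H := by
    rintro a a' rfl rfl hH
    exact hH
  exact key _ _ (Category.comp_id _) (Category.comp_id _) ⟨_, h2⟩

/-- The ideal of a fibre: rational point `x` of the first curve, pulled back to the surface. -/
theorem exists_fibreClass (h : Curve.IsSmoothProperCurve k C π) (h' : Curve.IsSmoothProperCurve k C' π')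
    (x : Spec (CommRingCat.of k) ⟶ C) (hx : x ≫ π = 𝟙 _)
    {S : Scheme.{u}} [S.Over (Spec (CommRingCat.of k))] [IsProper (S ↘ Spec (CommRingCat.of k))] [IsIntegral S]
    (hdim : topologicalKrullDim S = 2) (p : S ⟶ C) (q : S ⟶ C') (hS : IsPullback p q π π')
    (hp : p ≫ π = S ↘ Spec (CommRingCat.of k))
    (i : C' ⟶ S) (hiq : i ≫ q = 𝟙 C') (hip : i ≫ p = π' ≫ x) :
    ∃ I : C.Modules, PicF.IsInvertible I ∧ Curv2.deg k C I 1 = -1 ∧
      (∀ {Y : Scheme.{u}} (g : Y ⟶ Spec (CommRingCat.of k)),
        Nonempty ((Scheme.Modules.pullback (g ≫ x)).obj I ≅ Coh.structureModule Y)) ∧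
      ∀ M : S.Modules, PicF.IsInvertible M →
        SurfInt.dot k ((Scheme.Modules.pullback p).obj I) M =
          - Curv2.deg k C' ((Scheme.Modules.pullback i).obj M) 1 := by
  obtain ⟨_, _, _, hd⟩ := h
  obtain ⟨_, _, _, hd'⟩ := h'
  obtain ⟨hcl, hker, hres⟩ := CurveEmbed.section_point k x hx
  haveI : IsClosedImmersion x := by
    haveI : IsClosedImmersion (x ≫ π) := by rw [hx]; infer_instance
    exact IsClosedImmersion.of_comp x π
  set pt := x (IsLocalRing.closedPoint k)
  have hn : IsIntegrallyClosed (C.presheaf.stalk pt) := by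
    haveI := SurfInt.isRegular_of_smooth k (X := C) pt
    exact RegLoc6.isIntegrallyClosed_of_isRegularLocalRing (C.presheaf.stalk pt)
  have hI : PicF.IsInvertible (ClSub.idealMod x.ker) := by
    rw [hker]; exact CurveEmbed.isInvertible_point k hd hcl hn
  have heff : BlowUp.IsEffCartierIdeal x.ker := by
    rw [hker]; exact CurveEmbed.isEffCartier_point k hd hcl hn
  refine ⟨ClSub.idealMod x.ker, hI, ?_, fun g => ?_, fun M hM => ?_⟩
  · rw [hker]
    letI := Curv2.resAlgebra k C pt
    have hb : Function.Bijective (Algebra.linearMap k (C.residueField pt)) :=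
      ⟨(Curv2.resMap k C pt).injective, hres⟩
    rw [CurveEmbed.deg_point k hcl, ← (LinearEquiv.ofBijective _ hb).finrank_eq, Module.finrank_self]
    rfl
  · haveI : Subsingleton (Spec (CommRingCat.of k)) := inferInstanceAs (Subsingleton (PrimeSpectrum k))
    obtain ⟨e⟩ : Nonempty ((Scheme.Modules.pullback x).obj (ClSub.idealMod x.ker) ≅
        Coh.structureModule (Spec (CommRingCat.of k))) :=
      H23.PicMul.cl_eq_iff.1 (H23.KLBasic.trivial_of_subsingleton (PicClLib.isInvertible_pullback x hI))
    exact ⟨((Scheme.Modules.pullbackComp g x).app _).symm ≪≫ (Scheme.Modules.pullback g).mapIso e ≪≫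
      CurveBC.unitIso g⟩
  · haveI : IsClosedImmersion i := by
      haveI : IsClosedImmersion (i ≫ q) := by rw [hiq]; infer_instance
      haveI : IsSeparated q := MorphismProperty.of_isPullback hS inferInstance
      exact IsClosedImmersion.of_comp i q
    have hsq : IsPullback i π' p x := by
      refine IsPullback.of_right ?_ hip hS.flip
      rw [hiq, hx]
      exact IsPullback.of_horiz_isIso ⟨by simp⟩
    have hcomap : x.ker.comap p = i.ker := by
      rw [← Scheme.IdealSheafData.ker_fst_of_isClosedImmersion, ← hsq.isoPullback_hom_fst, Scheme.Hom.ker_comp_of_isIso]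
    haveI : Flat π' := inferInstance
    haveI : Flat p := MorphismProperty.of_isPullback hS.flip inferInstance
    have hgen : p (genericPoint S) ∉ (x.ker.support : Set C) := by
      obtain ⟨v, hv, he⟩ := Flat.generalizingMap p
        ((genericPoint_spec C).specializes (Set.mem_univ (p (genericPoint S))))
      have hv' : v = genericPoint S := (hv.antisymm ((genericPoint_spec S).specializes (Set.mem_univ v))).eq
      rw [← hv', he, hker]
      intro hmem
      rw [CurvePoint.support_ptIdeal, Set.mem_singleton_iff] at hmem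
      exact CurveEmbed.genericPoint_not_closed hd (hmem ▸ hcl)
    have hJ : BlowUp.IsEffCartierIdeal (x.ker.comap p) := ArSurfX.isEffCartier_comap_of_integral heff p hgen
    obtain ⟨e⟩ := ArSurfX.nonempty_pullback_idealMod heff p hJ
    have hinv : PicF.IsInvertible (ClSub.idealMod (x.ker.comap p)) := (S8914.result _).2 hJ
    rw [SurfInt.dot_congr k hdim.le (PicClLib.isInvertible_pullback p hI) hM e (Iso.refl M),
      SurfInt.dot_ideal_left k hdim.le _ hinv hM, hcomap,
      SurfInt.degOn_quot_ker k i (by rw [← hp, reassoc_of% hip, hx, Category.comp_id]) hM]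

end Groth.Agent.SurfProd75
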